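import Cfsg.Agent.Lib.CosetCert.D.OnJ1.Tbl
import Cfsg.Agent.Lib.CosetCert.D.OnJ1.Lv0.CT

namespace Cfsg.Agent.Lib.CosetCert.D.OnJ1.Lv0.Tab

open Cfsg.Agent.Lib.CosetCert Cfsg.Agent.Lib.TC.Core Cfsg.Agent.Lib.TC.Enc Cfsg.Agent.Lib.TC.Pres Cfsg.Agent.Lib.TC.Perm Cfsg.Agent.Lib.TC.Main

set_option maxRecDepth 100000

open Cfsg.Agent.Lib.CosetCert.D.OnJ1.Tbl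

/-- The chunks. -/
noncomputable def ctree : Tr Nat := Cfsg.Agent.Lib.CosetCert.D.OnJ1.Lv0.CT.tree

/-- The relator rotations. -/
noncomputable def rotT : Tr (List Nat) := (Tr.node (Tr.node (Tr.node (Tr.node (Tr.node (Tr.node (Tr.leaf []) (Tr.leaf [1,0,2,0,2,0,1,0,2,0,2,0,1,0,2,0,1,0,2,0,1,0,2,0,1,0,2,0,1,0,2,0,1,0,2,0,1,0,1,0,2,0,1,0,1,0,2,0,1,0,2,0,1,0,2,0,1,0,2,0,1,0,2,0,1,0,2,0])) (Tr.node (Tr.leaf [0,1,0,2,0,1,0,1,0,2,0,1,0,2,0,1,0,2,0,1,0,2,0,1,0,2,0,1,0,2,0,1,0,2,0,2,0,1,0,2,0,2,0,1,0,2,0,1,0,2,0,1,0,2,0,1,0,2,0,1,0,2,0,1,0,2,0,1]) (Tr.leaf [2,0,1,0,2,0,1,0,2,0,1,0,2,0,1,0,2,0,1,0,2,0,1,0,2,0,1,0,1,0,2,0,2,0,1,0,1,0,2,0,1,0,2,0,1,0,2,0,1,0,2,0,1,0,2,0,1,0,2,0,1,0,2,0,1,0,1,0,1,0])))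 (Tr.node (Tr.node (Tr.leaf [0,1,0,1,0,1,0,1,0,1,0,2,2,0,1]) (Tr.leaf [0,1,0,2,0,1,0,1,0,2,0,2,0,1,0,2,0,1,0,2,0,1,0,2,0,1,0,2,0,1,0,2,0,1,0,1,0,2,0,1,0,1,0,2,0,1,0,2,0,1,0,2,0,1,0,2,0,1,0,2,0,1,0,2,0,2,0,1])) (Tr.node (Tr.leaf [0,2,0,1,0,2,0,1,0,2,0,1,0,2,0,1,0,2,0,1,0,2,0,2,0,1,0,2,0,2,0,1,0,2,0,1,0,2,0,1,0,2,0,1,0,2,0,1,0,2,0,1,0,2,0,1,0,1,0,2,0,1,0,1,0,2,0,1]) (Tr.leaf [0,2,0,2,0,1,0,2,0,1,0,1,0,2,0,1,0,2,0,2,0,1,0,1,0,2,0,2,0,1,0,2,0,1,0,2,0,1,0,1,0,2,0,1,0,2,0,2,0,1,0,2,0,1,0,1,0,2,0,1,0,2,0,1,0,2,0,2,0,1,0,1])))) (Tr.node (Tr.node (Tr.node (Tr.leaf [0,1,0,1,0,1,0,1,0,1,0,1,0,1]) (Tr.leaf [0,2,0,1,0,2,0,1,0,2,0,1,0,2,0,1,0,2,0,1,0,1,0,2,0,1,0,1,0,2,0,1,0,2,0,1,0,2,0,1,0,2,0,1,0,2,0,1,0,2,0,1,0,2,0,2,0,1,0,2,0,2,0,1,0,2,0,1]))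 (Tr.node (Tr.leaf [0,2,0,1,0,2,0,1,0,2,0,1,0,2,0,1,0,2,0,1,0,2,0,1,0,2,0,2,0,1,0,2,0,2,0,1,0,2,0,1,0,2,0,1,0,2,0,1,0,2,0,1,0,2,0,1,0,2,0,1,0,1,0,2,0,1,0,1]) (Tr.leaf [0,1,0,1,0,2,0,2,0,1,0,2,0,1,0,2,0,2,2,0,2,0,1,0,2,0,1,0,2,0,1,0,2,0,2,0,1,0,1,0,2,0,2,0,1,0,2,0,1,0,2,0,2,2,0,2,0,1,0,2,0,1,0,2,0,1,0,2,0,2]))) (Tr.node (Tr.node (Tr.leaf [2,0,1,0,1,0,1,0,1,0,1,0,2,0,1,0,1,0,1,0,1,0,1,0]) (Tr.leaf [0,1,0,2,0,1,0,2,0,1,0,2,0,1,0,2,0,1,0,2,0,1,0,2,0,1,0,1,0,2,0,2,0,1,0,1,0,2,0,1,0,2,0,1,0,2,0,1,0,2,0,1,0,2,0,1,0,2,0,1,0,1,0,2,0,2,0,1])) (Tr.node (Tr.leaf [0,1,0,2,0,1,0,2,0,1,0,2,0,1,0,2,0,2,0,1,0,2,0,2,0,1,0,2,0,1,0,2,0,1,0,2,0,1,0,2,0,1,0,2,0,1,0,2,0,1,0,1,0,2,0,1,0,1,0,2,0,1,0,2,0,1,0,2])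 (Tr.leaf [0,0]))))) (Tr.node (Tr.node (Tr.node (Tr.node (Tr.leaf [2,2,2]) (Tr.leaf [2,0,1,0,2,0,1,0,2,0,1,0,2,0,1,0,2,0,1,0,2,0,1,0,2,0,1,0,1,0,2,0,1,0,1,0,2,0,1,0,2,0,1,0,2,0,1,0,2,0,1,0,2,0,1,0,2,0,1,0,2,0,2,0,1,0,2,0])) (Tr.node (Tr.leaf [2,0,1,0,1,0,2,0,1,0,2,0,1,0,2,0,1,0,2,0,1,0,2,0,1,0,2,0,1,0,2,0,2,0,1,0,2,0,2,0,1,0,2,0,1,0,2,0,1,0,2,0,1,0,2,0,1,0,2,0,1,0,2,0,1,0,1,0]) (Tr.leaf [0,1,0,2,0,2,0,1,0,2,0,1,0,2,0,1,0,2,0,1,0,2,0,1,0,2,0,1,0,2,0,2,0,1,0,1,0,2,0,2,0,1,0,2,0,1,0,2,0,1,0,2,0,1,0,2,0,1,0,2,0,2,0,1,0,1,0,1,0,2]))) (Tr.node (Tr.node (Tr.leaf [0,2,0,2,0,2,0,2,0,2,0,2,0,1,1]) (Tr.leaf [1,0,2,0,2,0,1,0,2,0,2,0,1,0,1,0,2,0,1,0,2,0,1,0,2,0,1,0,2,0,1,0,2,0,1,0,2,0,2,0,1,0,2,0,2,0,1,0,2,0,1,0,2,0,1,0,2,0,1,0,2,0,1,0,2,0,1,0]))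 (Tr.node (Tr.leaf [0,1,0,2,0,1,0,2,0,1,0,2,0,1,0,2,0,1,0,2,0,2,0,1,0,2,0,2,0,1,0,2,0,1,0,2,0,1,0,2,0,1,0,2,0,1,0,2,0,1,0,2,0,1,0,1,0,2,0,1,0,1,0,2,0,1,0,2]) (Tr.leaf [2,0,1,0,2,0,1,0,1,0,2,0,1,0,2,0,2,0,1,0,2,0,1,0,1,0,2,0,1,0,2,0,1,0,2,0,2,0,1,0,1,0,2,0,2,0,1,0,2,0,1,0,1,0,2,0,1,0,2,0,2,0,1,0,1,0,2,0,2,0,1,0])))) (Tr.node (Tr.node (Tr.node (Tr.leaf [2,0,2,0,2,0,2,0,2,0,2,0,2,0]) (Tr.leaf [0,2,0,1,0,1,0,2,0,1,0,2,0,1,0,2,0,1,0,2,0,1,0,2,0,1,0,2,0,2,0,1,0,1,0,2,0,1,0,1,0,2,0,2,0,1,0,2,0,1,0,2,0,1,0,2,0,1,0,2,0,1,0,2,0,1,0,1])) (Tr.node (Tr.leaf [0,1,0,2,0,1,0,2,0,1,0,2,0,1,0,2,0,1,0,2,0,1,0,2,0,2,0,1,0,2,0,2,0,1,0,2,0,1,0,2,0,1,0,2,0,1,0,2,0,1,0,2,0,1,0,2,0,1,0,1,0,2,0,1,0,1,0,2])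 (Tr.leaf [0,1,0,1,0,1,0,2,0,1,0,1,0,2,0,1,0,2,0,2,0,1,0,2,0,1,0,2,0,1,0,2,0,1,0,2,0,1,0,2,0,1,0,2,0,2,0,1,0,1,0,2,0,2,0,1,0,2,0,1,0,2,0,1,0,2,0,1,0,2,0,2]))) (Tr.node (Tr.node (Tr.leaf [2,0,2,0,2,0,2,0,2,0,1,0,2,0,2,0,2,0,2,0,2,0,1,0]) (Tr.leaf [2,0,1,0,1,0,2,0,2,0,1,0,1,0,2,0,1,0,2,0,1,0,2,0,1,0,2,0,1,0,2,0,1,0,2,0,1,0,1,0,2,0,2,0,1,0,1,0,2,0,1,0,2,0,1,0,2,0,1,0,2,0,1,0,2,0,1,0])) (Tr.node (Tr.leaf [2,0,1,0,2,0,1,0,2,0,1,0,2,0,2,0,1,0,2,0,2,0,1,0,2,0,1,0,2,0,1,0,2,0,1,0,2,0,1,0,2,0,1,0,2,0,1,0,1,0,2,0,1,0,1,0,2,0,1,0,2,0,1,0,2,0,1,0]) (Tr.leaf [2,1])))))) (Tr.node (Tr.node (Tr.node (Tr.node (Tr.node (Tr.leaf [1,1,1]) (Tr.leaf [0,2,0,1,0,2,0,1,0,2,0,1,0,2,0,1,0,2,0,1,0,2,0,1,0,2,0,1,0,1,0,2,0,1,0,1,0,2,0,1,0,2,0,1,0,2,0,1,0,2,0,1,0,2,0,1,0,2,0,1,0,2,0,2,0,1,0,2]))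 (Tr.node (Tr.leaf [0,2,0,1,0,1,0,2,0,1,0,2,0,1,0,2,0,1,0,2,0,1,0,2,0,1,0,2,0,1,0,2,0,2,0,1,0,2,0,2,0,1,0,2,0,1,0,2,0,1,0,2,0,1,0,2,0,1,0,2,0,1,0,2,0,1,0,1]) (Tr.leaf [0,2,0,1,0,2,0,1,0,2,0,1,0,2,0,1,0,2,0,1,0,2,0,1,0,2,0,2,0,1,0,1,0,2,0,2,0,1,0,2,0,1,0,2,0,1,0,2,0,1,0,2,0,1,0,2,0,1,0,2,0,1,0,2,0,2,0,2,0,1]))) (Tr.node (Tr.node (Tr.leaf [2,2,0,1,0,1,0,1,0,1,0,1,0,1,0]) (Tr.leaf [0,2,0,2,0,1,0,2,0,1,0,2,0,1,0,2,0,1,0,2,0,1,0,2,0,1,0,1,0,2,0,1,0,1,0,2,0,1,0,2,0,1,0,2,0,1,0,2,0,1,0,2,0,1,0,2,0,2,0,1,0,1,0,2,0,1,0,1])) (Tr.node (Tr.leaf [2,0,1,0,2,0,1,0,2,0,1,0,2,0,1,0,2,0,1,0,2,0,2,0,1,0,2,0,2,0,1,0,2,0,1,0,2,0,1,0,2,0,1,0,2,0,1,0,2,0,1,0,2,0,1,0,1,0,2,0,1,0,1,0,2,0,1,0])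 (Tr.leaf [0,1,0,2,0,1,0,1,0,2,0,1,0,2,0,2,0,1,0,1,0,2,0,2,0,1,0,2,0,1,0,2,0,1,0,1,0,2,0,1,0,2,0,2,0,1,0,2,0,1,0,1,0,2,0,1,0,2,0,1,0,2,0,2,0,1,0,1,0,2,0,2])))) (Tr.node (Tr.node (Tr.node (Tr.leaf [0,2,0,2,0,2,0,2,0,2,0,2,0,2]) (Tr.leaf [0,1,0,2,0,1,0,2,0,1,0,2,0,1,0,2,0,1,0,1,0,2,0,1,0,1,0,2,0,1,0,2,0,1,0,2,0,1,0,2,0,1,0,2,0,1,0,2,0,1,0,2,0,2,0,1,0,2,0,2,0,1,0,2,0,1,0,2])) (Tr.node (Tr.leaf [2,0,1,0,2,0,1,0,2,0,1,0,2,0,1,0,2,0,1,0,2,0,1,0,2,0,2,0,1,0,2,0,2,0,1,0,2,0,1,0,2,0,1,0,2,0,1,0,2,0,1,0,2,0,1,0,2,0,1,0,1,0,2,0,1,0,1,0]) (Tr.leaf [0,2,0,1,0,2,0,2,0,1,0,2,0,1,0,2,0,1,0,2,0,1,0,2,0,1,0,2,0,1,0,1,1,0,2,0,1,0,1,0,2,0,2,0,1,0,2,0,1,0,2,0,1,0,2,0,1,0,2,0,1,0,2,0,2,0,1,0,1,0,1])))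 (Tr.node (Tr.node (Tr.leaf [0,2,0,2,0,2,0,2,0,2,0,1,0,2,0,2,0,2,0,2,0,2,0,1]) (Tr.leaf [0,2,0,1,0,2,0,1,0,2,0,1,0,2,0,1,0,2,0,1,0,2,0,1,0,1,0,2,0,2,0,1,0,1,0,2,0,1,0,2,0,1,0,2,0,1,0,2,0,1,0,2,0,1,0,2,0,1,0,1,0,2,0,2,0,1,0,1])) (Tr.node (Tr.leaf [0,2,0,1,0,2,0,1,0,2,0,1,0,2,0,2,0,1,0,2,0,2,0,1,0,2,0,1,0,2,0,1,0,2,0,1,0,2,0,1,0,2,0,1,0,2,0,1,0,1,0,2,0,1,0,1,0,2,0,1,0,2,0,1,0,2,0,1]) (Tr.leaf [1,2]))))) (Tr.node (Tr.node (Tr.node (Tr.node (Tr.leaf [1,0,1,0,1,0,1,0,1,0,1,0,1,0]) (Tr.leaf [0,1,0,2,0,1,0,2,0,1,0,2,0,1,0,2,0,1,0,2,0,1,0,1,0,2,0,1,0,1,0,2,0,1,0,2,0,1,0,2,0,1,0,2,0,1,0,2,0,1,0,2,0,1,0,2,0,2,0,1,0,2,0,2,0,1,0,2])) (Tr.node (Tr.leaf [1,0,2,0,1,0,2,0,1,0,2,0,1,0,2,0,1,0,2,0,1,0,2,0,1,0,2,0,2,0,1,0,2,0,2,0,1,0,2,0,1,0,2,0,1,0,2,0,1,0,2,0,1,0,2,0,1,0,2,0,1,0,1,0,2,0,1,0])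 (Tr.leaf [0,1,0,2,0,1,0,2,0,1,0,2,0,2,0,1,0,2,0,1,0,2,0,1,0,2,0,2,0,1,0,2,0,1,0,2,0,1,0,2,0,2,0,1,0,2,0,1,0,2,0,1,0,2,0,2,0,1,0,2,0,1,0,2,0,1,0,2,0,2]))) (Tr.node (Tr.node (Tr.leaf [1,0,1,0,1,0,1,0,2,0,1,0,1,0,1,0,1,0,1,0,2,0,1,0]) (Tr.leaf [0,2,0,1,0,2,0,2,0,1,0,2,0,2,0,1,0,2,0,1,0,2,0,1,0,2,0,1,0,2,0,1,0,2,0,1,0,1,0,2,0,2,0,1,0,2,0,2,0,1,0,1,0,2,0,1,0,2,0,1,0,2,0,1,0,2,0,1])) (Tr.node (Tr.leaf [0,2,0,1,0,2,0,1,0,2,0,1,0,2,0,1,0,2,0,2,0,1,0,2,0,2,0,1,0,2,0,1,0,2,0,1,0,2,0,1,0,2,0,1,0,2,0,1,0,2,0,1,0,1,0,2,0,1,0,1,0,2,0,1,0,2,0,1]) (Tr.leaf [0,1,0,1,0,2,0,1,0,2,0,2,0,1,0,2,0,1,0,1,0,2,0,2,0,1,0,1,0,2,0,1,0,2,0,1,0,2,0,2,0,1,0,2,0,1,0,1,0,2,0,1,0,2,0,2,0,1,0,2,0,1,0,2,0,1,0,1,0,2,0,2]))))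 (Tr.node (Tr.node (Tr.node (Tr.leaf [0,1,0,1,0,1,0,1,0,1,0,1,0,2,2]) (Tr.leaf [0,2,0,1,0,1,0,2,0,1,0,1,0,2,0,2,0,1,0,2,0,1,0,2,0,1,0,2,0,1,0,2,0,1,0,2,0,1,0,1,0,2,0,1,0,1,0,2,0,1,0,2,0,1,0,2,0,1,0,2,0,1,0,2,0,1,0,2])) (Tr.node (Tr.leaf [1,0,2,0,1,0,2,0,1,0,2,0,1,0,2,0,1,0,2,0,1,0,2,0,2,0,1,0,2,0,2,0,1,0,2,0,1,0,2,0,1,0,2,0,1,0,2,0,1,0,2,0,1,0,2,0,1,0,1,0,2,0,1,0,1,0,2,0]) (Tr.leaf [2,0,1,0,2,0,2,0,1,0,1,0,2,0,2,0,1,0,2,0,1,0,1,0,2,0,1,0,2,0,2,0,1,0,1,0,2,0,2,0,1,0,2,0,1,0,2,0,1,0,1,0,2,0,1,0,2,0,2,0,1,0,2,0,1,0,1,0,2,0,1,0]))) (Tr.node (Tr.node (Tr.leaf [1,0,1,0,2,0,1,0,1,0,2,0,1,0,2,0,1,0,2,0,1,0,2,0,1,0,2,0,1,0,2,0,1,0,2,0,2,0,1,0,2,0,2,0,1,0,2,0,1,0,2,0,1,0,2,0,1,0,2,0,1,0,2,0,1,0,2,0])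 (Tr.leaf [0,2,0,1,0,2,0,1,0,2,0,1,0,2,0,1,0,2,0,1,0,2,0,1,0,2,0,2,0,1,0,1,0,2,0,2,0,1,0,2,0,1,0,2,0,1,0,2,0,1,0,2,0,1,0,2,0,1,0,2,0,2,0,1,0,1,0,2])) (Tr.node (Tr.leaf [0,1,0,2,0,1,0,2,0,1,0,2,0,2,0,1,0,2,0,2,0,1,0,2,0,1,0,2,0,1,0,2,0,1,0,2,0,1,0,2,0,1,0,2,0,1,0,1,0,2,0,1,0,1,0,2,0,1,0,2,0,1,0,2,0,1,0,2]) (Tr.leaf [])))))))

/-- The witnesses of the rotations. -/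
noncomputable def witT : Tr (Nat × Nat × Bool) := (Tr.node (Tr.node (Tr.node (Tr.node (Tr.node (Tr.node (Tr.leaf (0,0,false)) (Tr.leaf (8,33,false))) (Tr.node (Tr.leaf (8,2,false)) (Tr.leaf (11,7,false)))) (Tr.node (Tr.node (Tr.leaf (6,2,false)) (Tr.leaf (9,36,false))) (Tr.node (Tr.leaf (8,14,false)) (Tr.leaf (17,20,false))))) (Tr.node (Tr.node (Tr.node (Tr.leaf (4,2,false)) (Tr.leaf (8,50,false))) (Tr.node (Tr.leaf (8,10,false)) (Tr.leaf (14,69,true)))) (Tr.node (Tr.node (Tr.leaf (7,11,false)) (Tr.leaf (10,2,false))) (Tr.node (Tr.leaf (8,20,false)) (Tr.leaf (18,0,false)))))) (Tr.node (Tr.node (Tr.node (Tr.node (Tr.leaf (5,1,true)) (Tr.leaf (8,43,false))) (Tr.node (Tr.leaf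 (8,5,false)) (Tr.leaf (12,8,false)))) (Tr.node (Tr.node (Tr.leaf (6,2,true)) (Tr.leaf (9,22,true))) (Tr.node (Tr.leaf (8,16,false)) (Tr.leaf (17,51,false))))) (Tr.node (Tr.node (Tr.node (Tr.leaf (4,2,true)) (Tr.leaf (9,4,false))) (Tr.node (Tr.leaf (8,12,false)) (Tr.leaf (16,0,false)))) (Tr.node (Tr.node (Tr.leaf (7,2,true)) (Tr.leaf (10,25,false))) (Tr.node (Tr.leaf (8,23,false)) (Tr.leaf (18,2,false))))))) (Tr.node (Tr.node (Tr.node (Tr.node (Tr.node (Tr.leaf (5,1,false)) (Tr.leaf (8,42,false))) (Tr.node (Tr.leaf (8,4,false)) (Tr.leaf (11,1,true)))) (Tr.node (Tr.node (Tr.leaf (6,13,false)) (Tr.leaf (9,44,false))) (Tr.node (Tr.leaf (8,15,false)) (Tr.leaf (17,24,false)))))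 (Tr.node (Tr.node (Tr.node (Tr.leaf (4,1,true)) (Tr.leaf (8,52,false))) (Tr.node (Tr.leaf (8,11,false)) (Tr.leaf (15,6,false)))) (Tr.node (Tr.node (Tr.leaf (7,1,true)) (Tr.leaf (10,4,false))) (Tr.node (Tr.leaf (8,22,false)) (Tr.leaf (18,1,false)))))) (Tr.node (Tr.node (Tr.node (Tr.node (Tr.leaf (4,1,false)) (Tr.leaf (8,48,false))) (Tr.node (Tr.leaf (8,9,false)) (Tr.leaf (13,13,true)))) (Tr.node (Tr.node (Tr.leaf (7,3,false)) (Tr.leaf (9,53,true))) (Tr.node (Tr.leaf (8,18,false)) (Tr.leaf (17,31,true))))) (Tr.node (Tr.node (Tr.node (Tr.leaf (6,0,false)) (Tr.leaf (9,32,false))) (Tr.node (Tr.leaf (8,13,false)) (Tr.leaf (17,9,false)))) (Tr.node (Tr.node (Tr.leaf (8,1,false))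 (Tr.leaf (10,5,true))) (Tr.node (Tr.leaf (8,24,false)) (Tr.leaf (0,0,false))))))))

/-- The subgroup rotations. -/
noncomputable def srotT : Tr (List Nat × Nat × List Nat) := (Tr.node (Tr.leaf ([],1,[])) (Tr.leaf ([0,1,0,1,0,2,0,2,0,1],0,[2,0,1,0,1,0,2,0,2,0])))

/-- The certificate. -/
noncomputable def cert : Cert :=
  mkCert 3 1540 4620 1 63 65 6 63 131 31 93 118 2147483647 33554431 13 11 8191 2047 24 22 3 ctree.get rotT.get srotT.get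

/-- The relators. -/
def rels : List (List Nat) :=
  [[0,2,0,2,0,2,0,2,0,2,0,2,0,2,0,2,0,2,0,2,0,2,0,2,0,2,0,2],
   [1,0,1,1,0,1,1,0,1,1,0,1,1,0,1,1,0,1,1,0,1],
   [0,2,0,2,0,2,0,2,0,2,0,2,0,2],
   [2,2,0,2,2,0,2,2,0,2,2,0,2,2,0,2,2,0,2,2,0],
   [0,1,0,1,0,1,0,1,0,1,0,1,0,1],
   [1,1,1],
   [0,1,0,1,0,1,0,1,0,1,0,1,0,2,2],
   [0,1,0,1,0,1,0,1,0,1,0,2,0,1,0,1,0,1,0,1,0,1,0,2],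
   [0,1,0,1,0,2,0,1,0,1,0,2,0,1,0,2,0,1,0,2,0,1,0,2,0,1,0,2,0,1,0,2,0,1,0,2,0,2,0,1,0,2,0,2,0,1,0,2,0,1,0,2,0,1,0,2,0,1,0,2,0,1,0,2,0,1,0,2],
   [0,1,0,1,0,2,0,1,0,1,0,2,0,1,0,2,0,1,0,2,0,1,0,2,0,1,0,2,0,1,0,2,0,2,0,1,0,1,0,2,0,1,0,1,0,2,0,2,0,1,0,2,0,1,0,2,0,1,0,2,0,1,0,2,0,1,0,2],
   [0,1,0,1,0,2,0,1,0,2,0,1,0,2,0,1,0,2,0,1,0,2,0,1,0,2,0,1,0,1,0,2,0,2,0,1,0,1,0,2,0,1,0,2,0,1,0,2,0,1,0,2,0,1,0,2,0,1,0,2,0,1,0,1,0,2,0,2],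
   [0,1,0,1,0,1,0,2,0,1,0,2,0,1,0,2,0,1,0,2,0,1,0,2,0,1,0,2,0,1,0,2,0,1,0,1,0,2,0,2,0,1,0,1,0,2,0,1,0,2,0,1,0,2,0,1,0,2,0,1,0,2,0,1,0,2,0,1,0,2],
   [0,1,0,1,0,1,0,2,0,1,0,2,0,2,0,1,0,2,0,1,0,2,0,1,0,2,0,1,0,2,0,1,0,2,0,1,0,2,0,2,0,1,0,1,0,2,0,2,0,1,0,2,0,1,0,2,0,1,0,2,0,1,0,2,0,1,0,2,0,2],
   [0,1,0,1,0,2,0,1,0,2,0,1,0,2,0,1,0,1,0,2,0,1,0,2,0,1,0,2,0,1,0,1,0,2,0,1,0,2,0,1,0,2,0,1,0,1,0,2,0,1,0,2,0,1,0,2,0,1,0,1,0,2,0,1,0,2,0,1,0,2],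
   [0,1,0,1,0,2,0,1,0,2,0,1,0,2,0,1,0,1,1,0,1,0,2,0,1,0,2,0,1,0,1,0,2,0,2,0,1,0,1,0,2,0,1,0,2,0,1,0,2,0,1,0,1,1,0,1,0,2,0,1,0,2,0,1,0,1,0,2,0,2],
   [0,1,0,1,0,1,0,2,0,1,0,2,0,2,0,1,0,2,0,1,0,2,0,1,0,2,0,1,0,2,0,1,0,2,0,1,0,1,1,0,2,0,1,0,1,0,2,0,2,0,1,0,2,0,1,0,2,0,1,0,2,0,1,0,2,0,1,0,2,0,2],
   [0,1,0,1,0,1,0,2,0,1,0,1,0,2,0,1,0,2,0,2,0,1,0,2,0,1,0,2,0,1,0,2,0,1,0,2,0,1,0,2,0,1,0,2,0,2,0,1,0,1,0,2,0,2,0,1,0,2,0,1,0,2,0,1,0,2,0,1,0,2,0,2],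
   [0,1,0,1,0,2,0,1,0,2,0,1,0,2,0,2,0,1,0,1,0,2,0,2,0,1,0,2,0,1,0,1,0,2,0,1,0,2,0,2,0,1,0,1,0,2,0,2,0,1,0,2,0,1,0,2,0,1,0,1,0,2,0,1,0,2,0,2,0,1,0,2]]

/-- The words of the subgroup. -/
def subs : List (List Nat) :=
  [[1],
   [0,1,0,1,0,2,0,2,0,1,0,2,0,1,0,1,0,2,0,2,0]]

end Cfsg.Agent.Lib.CosetCert.D.OnJ1.Lv0.Tab
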